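import Groth.Prelude.Def_PolLaw2
import Groth.Prelude.Def_W4c5normfunctorschNorm
import Mathlib.LinearAlgebra.PiTensorProduct.Basis
import Mathlib.LinearAlgebra.Alternating.Basic

/-!
Symmetric tensors acting on the top exterior power.
-/

namespace Groth.Agent.SymTenLib

open TensorProduct

universe u

variable {R : Type u} [CommRing R] {A : Type u} [CommRing A] [Algebra R A] {d : ℕ}
  (b : Module.Basis (Fin d) R A)

/-- The determinant functional on the tensor power. -/
noncomputable def detT : (⨂[R] _ : Fin d, A) →ₗ[R] R := PiTensorProduct.lift b.det.toMultilinearMap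

theorem detT_tprod (v : Fin d → A) : detT b (PiTensorProduct.tprod R v) = b.det v := by
  simp [detT]

theorem sub_detT_smul_mem (x : ⨂[R] _ : Fin d, A) :
    x - detT b x • PiTensorProduct.tprod R b ∈ SymTen.altSpan R A d := by
  classical
  let q := (SymTen.altSpan R A d).mkQ
  let f : A [⋀^Fin d]→ₗ[R] ((⨂[R] _ : Fin d, A) ⧸ SymTen.altSpan R A d) :=
    { q.compMultilinearMap (PiTensorProduct.tprod R) with
      map_eq_zero_of_eq' := fun v i j h hij =>
        (Submodule.Quotient.mk_eq_zero _).2 (Submodule.subset_span ⟨v, i, j, hij, h, rfl⟩) }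
  have hf : ∀ v, q (PiTensorProduct.tprod R v) = b.det v • q (PiTensorProduct.tprod R b) := by
    intro v
    let g : A [⋀^Fin d]→ₗ[R] ((⨂[R] _ : Fin d, A) ⧸ SymTen.altSpan R A d) :=
      (LinearMap.toSpanSingleton R _ (q (PiTensorProduct.tprod R b))).compAlternatingMap b.det
    have hfg : f = g := Module.Basis.ext_alternating b fun w hw => by
      have hperm := Finite.injective_iff_bijective.1 hw
      let σ : Equiv.Perm (Fin d) := Equiv.ofBijective w hperm
      have hfw : f (fun i => b (w i)) = Equiv.Perm.sign σ • f b := f.map_perm b σ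
      have hgw : g (fun i => b (w i)) = Equiv.Perm.sign σ • g b := g.map_perm b σ
      rw [hfw, hgw]
      congr 1
      show q (PiTensorProduct.tprod R b) = b.det b • q (PiTensorProduct.tprod R b)
      rw [b.det_self, one_smul]
    exact congrArg (fun h : A [⋀^Fin d]→ₗ[R] _ => h v) hfg
  rw [← Submodule.Quotient.mk_eq_zero]
  show q (x - detT b x • PiTensorProduct.tprod R b) = 0
  induction x using PiTensorProduct.induction_on with
  | smul_tprod r v => rw [map_sub, map_smul, map_smul, map_smul, detT_tprod, hf, smul_assoc, sub_self]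
  | add x y hx hy => rw [map_add (detT b), add_smul, add_sub_add_comm, map_add, hx, hy, add_zero]

theorem detT_mul_eq_zero {a : ⨂[R] _ : Fin d, A} (ha : a ∈ SymTen.TS R A d)
    {x : ⨂[R] _ : Fin d, A} (hx : x ∈ SymTen.altSpan R A d) :
    detT b (SymTen.tpowAct R A A d a x) = 0 := by
  classical
  induction hx using Submodule.span_induction with
  | zero => simp
  | add y z _ _ hy hz => rw [map_add, map_add, hy, hz, add_zero]
  | smul r y _ hy => rw [map_smul, map_smul, hy, smul_zero]
  | mem y hy =>
    obtain ⟨p, i, j, hij, hp, rfl⟩ := hy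
    let B := Basis.piTensorProduct fun _ : Fin d => b
    let c := B.repr a
    have hc : ∀ I : Fin d → Fin d, c (I ∘ Equiv.swap i j) = c I := by
      intro I
      let σ := Equiv.swap i j
      let l₁ : (⨂[R] _ : Fin d, A) →ₗ[R] R := Finsupp.lapply (I ∘ σ) ∘ₗ B.repr.toLinearMap
      let l₂ : (⨂[R] _ : Fin d, A) →ₗ[R] R :=
        Finsupp.lapply I ∘ₗ B.repr.toLinearMap ∘ₗ
          (PiTensorProduct.reindex R (fun _ : Fin d => A) σ).toLinearMap
      have h12 : l₁ = l₂ := by
        refine PiTensorProduct.ext (MultilinearMap.ext fun v => ?_)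
        show B.repr (PiTensorProduct.tprod R v) (I ∘ σ) =
          B.repr (PiTensorProduct.reindex R (fun _ : Fin d => A) σ (PiTensorProduct.tprod R v)) I
        rw [PiTensorProduct.reindex_tprod, Basis.piTensorProduct_repr_tprod_apply,
          Basis.piTensorProduct_repr_tprod_apply, ← Equiv.prod_comp σ (fun k => b.repr (v (σ.symm k)) (I k))]
        simp
      calc c (I ∘ σ) = l₁ a := rfl
        _ = l₂ a := by rw [h12]
        _ = B.repr (PiTensorProduct.reindex R (fun _ : Fin d => A) σ a) I := rfl
        _ = c I := by rw [(SymTen.mem_TS_iff R A d a).1 ha σ]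
    have hterm : ∀ I, detT b (SymTen.tpowAct R A A d (B I) (PiTensorProduct.tprod R p)) =
        b.det (fun k => b (I k) * p k) := by
      intro I
      rw [Basis.piTensorProduct_apply, SymTen.tpowAct, PiTensorProduct.lift.tprod,
        MultilinearMap.compLinearMap_apply, PiTensorProduct.mapMultilinear_apply,
        PiTensorProduct.map_tprod, detT_tprod]
      rfl
    rw [← B.sum_repr a, map_sum, LinearMap.sum_apply, map_sum]
    simp only [map_smul, LinearMap.smul_apply, hterm]
    refine Finset.sum_involution (fun I _ => I ∘ Equiv.swap i j) (fun I _ => ?_) (fun I _ hne hI => ?_)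
      (fun I _ => Finset.mem_univ _) fun I _ => ?_
    · have h1 : (fun k => b (I (Equiv.swap i j k)) * p k) = (fun k => b (I k) * p k) ∘ Equiv.swap i j := by
        funext k
        show b (I (Equiv.swap i j k)) * p k = b (I (Equiv.swap i j k)) * p (Equiv.swap i j k)
        congr 1
        rcases eq_or_ne k i with rfl | hki
        · rw [Equiv.swap_apply_left, hp]
        rcases eq_or_ne k j with rfl | hkj
        · rw [Equiv.swap_apply_right, hp]
        rw [Equiv.swap_apply_of_ne_of_ne hki hkj]
      show c I • b.det (fun k => b (I k) * p k) + c (I ∘ Equiv.swap i j) •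
        b.det (fun k => b (I (Equiv.swap i j k)) * p k) = 0
      rw [hc, h1, b.det.map_swap _ hij, smul_neg, add_neg_cancel]
    · refine hne ?_
      have hIij : I i = I j := by
        have := congrFun hI j
        simpa using this
      rw [b.det.map_eq_zero_of_eq (fun k => b (I k) * p k) (by simp [hIij, hp]) hij, smul_zero]
    · funext k; simp

theorem detT_act {a : ⨂[R] _ : Fin d, A} (ha : a ∈ SymTen.TS R A d) (x : ⨂[R] _ : Fin d, A) :
    detT b (SymTen.tpowAct R A A d a x) =
      detT b (SymTen.tpowAct R A A d a (PiTensorProduct.tprod R b)) * detT b x := by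
  have h := detT_mul_eq_zero b ha (sub_detT_smul_mem b x)
  rw [map_sub, map_smul, map_sub, map_smul, sub_eq_zero, smul_eq_mul] at h
  rw [h, mul_comm]

theorem tpowAct_mul (a a' : ⨂[R] _ : Fin d, A) :
    SymTen.tpowAct R A A d (a * a') = SymTen.tpowAct R A A d a * SymTen.tpowAct R A A d a' := by
  refine LinearMap.ext fun x => ?_
  have key : ∀ (c y : ⨂[R] _ : Fin d, A), SymTen.tpowAct R A A d c y = c * y := by
    intro c y
    induction c using PiTensorProduct.induction_on with
    | smul_tprod r v =>
      induction y using PiTensorProduct.induction_on with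
      | smul_tprod r' w =>
        simp only [map_smul, LinearMap.smul_apply]
        rw [SymTen.tpowAct, PiTensorProduct.lift.tprod,
          MultilinearMap.compLinearMap_apply, PiTensorProduct.mapMultilinear_apply,
          PiTensorProduct.map_tprod, smul_mul_assoc, mul_smul_comm, PiTensorProduct.tprod_mul_tprod,
          smul_comm r r']
        rfl
      | add y z hy hz => rw [map_add, hy, hz, mul_add]
    | add c c' hc hc' => rw [map_add, LinearMap.add_apply, hc, hc', add_mul]
  rw [Module.End.mul_apply, key, key, key, mul_assoc]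

theorem norm_eq_sum {S : Type u} [CommRing S] [Algebra R S] (s : Fin d → S) :
    Algebra.norm S (∑ i, s i ⊗ₜ[R] b i) =
      ∑ I : Fin d → Fin d, (∏ j, s (I j)) * algebraMap R S (b.det fun j => b (I j) * b j) := by
  classical
  let BS := Algebra.TensorProduct.basis S b
  rw [Algebra.norm_eq_matrix_det BS, ← Matrix.det_transpose]
  let row : Fin d → Fin d → (Fin d → S) := fun j i k => algebraMap R S (b.repr (b i * b j) k)
  have hrow : (Algebra.leftMulMatrix BS (∑ i, s i ⊗ₜ[R] b i)).transpose =
      Matrix.of fun j => ∑ i, s i • row j i := by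
    refine Matrix.ext fun j k => ?_
    rw [Matrix.transpose_apply, Algebra.leftMulMatrix_eq_repr_mul, Matrix.of_apply, Finset.sum_apply]
    simp only [BS, Algebra.TensorProduct.basis_apply, Finset.sum_mul,
      Algebra.TensorProduct.tmul_mul_tmul, mul_one, map_sum, Finsupp.coe_finset_sum, Finset.sum_apply,
      Algebra.TensorProduct.basis_repr_tmul, Finsupp.smul_apply, Finsupp.mapRange_apply, Pi.smul_apply,
      smul_eq_mul, row]
  rw [hrow]
  show (Matrix.detRowAlternating : (Fin d → S) [⋀^Fin d]→ₗ[S] S).toMultilinearMap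
    (fun j => ∑ i, s i • row j i) = _
  rw [MultilinearMap.map_sum]
  refine Finset.sum_congr rfl fun I _ => ?_
  rw [MultilinearMap.map_smul_univ, smul_eq_mul]
  congr 1
  rw [Module.Basis.det_apply, RingHom.map_det, ← Matrix.det_transpose (((algebraMap R S).mapMatrix) _)]
  rfl

theorem exists_sum_tmul {S : Type u} [CommRing S] [Algebra R S] (y : S ⊗[R] A) :
    ∃ s : Fin d → S, y = ∑ i, s i ⊗ₜ[R] b i := by
  refine ⟨fun i => (Algebra.TensorProduct.basis S b).repr y i, ?_⟩
  conv_lhs => rw [← (Algebra.TensorProduct.basis S b).sum_repr y]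
  refine Finset.sum_congr rfl fun i _ => ?_
  rw [Algebra.TensorProduct.basis_apply, TensorProduct.smul_tmul', smul_eq_mul, mul_one]

theorem lTensor_tpowLaw {S : Type u} [CommRing S] [Algebra R S]
    (L : (⨂[R] _ : Fin d, A) →ₗ[R] R) (s : Fin d → S) :
    L.lTensor S ((SymTen.tpowLaw R A d).law.toFun' S (∑ i, s i ⊗ₜ[R] b i)) =
      (∑ I : Fin d → Fin d, (∏ j, s (I j)) *
        algebraMap R S (L (PiTensorProduct.tprod R fun j => b (I j)))) ⊗ₜ[R] (1 : R) := by
  classical
  rw [SymTen.tpowLaw, PolLaw.MulLaw.prodMap_toFun']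
  simp only [map_sum, Algebra.TensorProduct.map_tmul, AlgHom.id_apply, Finset.prod_univ_sum,
    Fintype.piFinset_univ, TensorProduct.sum_tmul]
  refine Finset.sum_congr rfl fun I _ => ?_
  have hprod : ∀ (T : Finset (Fin d)) (f : Fin d → S) (g : Fin d → ⨂[R] _ : Fin d, A),
      ∏ k ∈ T, f k ⊗ₜ[R] g k = (∏ k ∈ T, f k) ⊗ₜ[R] ∏ k ∈ T, g k := by
    intro T f g
    induction T using Finset.induction_on with
    | empty => simp [Algebra.TensorProduct.one_def]
    | insert k T hk ih =>
      rw [Finset.prod_insert hk, Finset.prod_insert hk, Finset.prod_insert hk, ih,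
        Algebra.TensorProduct.tmul_mul_tmul]
  rw [hprod, LinearMap.lTensor_tmul]
  simp only [PiTensorProduct.singleAlgHom_apply, MonoidHom.mulSingle_apply]
  rw [← PiTensorProduct.tprod_prod, Finset.univ_prod_mulSingle (fun j => b (I j))]
  generalize L (PiTensorProduct.tprod R fun j => b (I j)) = r
  rw [mul_comm (∏ j, s (I j)) (algebraMap R S r), ← Algebra.smul_def, TensorProduct.smul_tmul,
    smul_eq_mul, mul_one]

end Groth.Agent.SymTenLib
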